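import Groth.Agent.L22.AvoidPts.Proj
import Groth.Agent.L22.VeryAmple.Over
import Groth.Agent.L22.FibreDim
import Groth.Agent.L18.AmplePull
import Groth.Agent.L29.LocFree

/-!
Very ample sections vanishing at a rational point and not at finitely many other points.
-/

set_option autoImplicit false
set_option backward.isDefEq.respectTransparency false
set_option linter.style.haveILetI false

universe u

open CategoryTheory CategoryTheory.Limits AlgebraicGeometry TopologicalSpace

noncomputable section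

namespace Groth.L22.AvoidPts

theorem exists_section (k : Type u) [Field k] [Infinite k] (X : Scheme.{u}) [X.Over (Spec (CommRingCat.of k))]
    (L : X.Modules) (hL : RelAmple.IsRelVeryAmplePn (X ↘ (Spec (CommRingCat.of k))) L)
    (x : X) (hx : Function.Surjective (Curv2.resMap k X x)) {ι : Type*} [Finite ι] (pts : ι → X)
    (hne : ∀ i, pts i ≠ x) :
    ∃ s : Coh.structureModule X ⟶ L, x ∉ CohB1.genLocus L s ∧ ∀ i, pts i ∈ CohB1.genLocus L s := by
  let Y := Spec (CommRingCat.of k)
  obtain ⟨n, i, hi, hq, ⟨τ⟩⟩ := hL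
  obtain ⟨e, he, ⟨ε⟩⟩ := Groth.L22.VeryAmple.exists_iso_over n Y
  let R := Γ(Y, ⊤)
  let φ : R ≃+* k := (Scheme.ΓSpecIso (CommRingCat.of k)).commRingCatIsoToRingEquiv
  letI : Field R := (φ.toMulEquiv.isField (Field.toIsField k)).toField
  haveI : Infinite R := Infinite.of_injective φ.symm φ.symm.injective
  let r : X ⟶ Groth.L18.PUP.P n R := i ≫ e.inv
  haveI : IsImmersion r := inferInstance
  have hr : r ≫ Groth.L18.PUP.pr n R ≫ Y.isoSpec.inv = X ↘ (Spec (CommRingCat.of k)) := by
    rw [← he, Category.assoc, Iso.inv_hom_id_assoc]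
    exact hq
  haveI : IsIso (CommRingCat.ofHom (Curv2.resMap k X x)) :=
    (ConcreteCategory.isIso_iff_bijective _).2 ⟨(Curv2.resMap k X x).injective, hx⟩
  let p : Y ⟶ X := inv (Spec.map (CommRingCat.ofHom (Curv2.resMap k X x))) ≫ X.fromSpecResidueField x
  have hp : p ≫ (X ↘ (Spec (CommRingCat.of k))) = 𝟙 _ := by
    rw [Category.assoc, ← Groth.L22.FibreDim.SpecMap_resMap, IsIso.inv_hom_id]
  let a : Spec (CommRingCat.of R) ⟶ Groth.L18.PUP.P n R := Y.isoSpec.inv ≫ p ≫ r
  have ha : a ≫ Groth.L18.PUP.pr n R = 𝟙 _ := by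
    rw [← cancel_mono Y.isoSpec.inv, Category.id_comp]
    simp only [a, Category.assoc]
    rw [hr, hp, Category.comp_id]
  have hax : a (IsLocalRing.closedPoint R) = r x := by
    simp only [a, p, Scheme.Hom.comp_apply]
    exact congrArg r (Scheme.fromSpecResidueField_apply _ _)
  obtain ⟨f, hf0, hf⟩ := exists_form a ha (fun j => r (pts j))
    (fun j h => hne j (r.isEmbedding.injective (h.trans hax)))
  have hcov : ∀ z : Groth.L18.PUP.P n R, ∃ g : CohB1.polyGrading n R 1,
      z ∈ Proj.basicOpen (CohB1.polyGrading n R) g.1 := fun z => by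
    obtain ⟨l, hl⟩ := Opens.mem_iSup.1 ((Groth.L18.PS.iSup_chart (n := n) (R := R)).ge
      (trivial : z ∈ (⊤ : (Groth.L18.PUP.P n R).Opens)))
    exact ⟨⟨MvPolynomial.X l, Groth.L18.PS.X_mem n l⟩, hl⟩
  let s : Coh.structureModule (Groth.L18.PUP.P n R) ⟶ Groth.L18.PUP.O1 n R :=
    Groth.L16.ProjTwist.sect (CohB1.polyGrading n R) f
  have hs : CohB1.genLocus (Groth.L18.PUP.O1 n R) s = Proj.basicOpen (CohB1.polyGrading n R) f.1 :=
    Groth.L16.ProjTwist.genLocus_sect (CohB1.polyGrading n R) hcov f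
  have hO : PicF.IsInvertible (Groth.L18.PUP.O1 n R) := (Groth.L22.VeryAmple.isAmple_O1 n R).1
  let ι' : (Scheme.Modules.pullback r).obj (Groth.L18.PUP.O1 n R) ≅ L :=
    (Scheme.Modules.pullback r).mapIso ε.symm ≪≫ (Scheme.Modules.pullbackComp r e.hom).app _ ≪≫
      (Scheme.Modules.pullbackCongr (by simp [r])).app _ ≪≫ τ.symm
  refine ⟨((Groth.L29.LocFree.pullbackUnitIso r).symm.hom ≫ (Scheme.Modules.pullback r).map s) ≫ ι'.hom, ?_, ?_⟩
  · rw [Groth.L16.genLocus_comp_iso _ ι', Groth.L18.Ample.genLocus_iso_pullback (u := r) hO s, hs]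
    intro h
    exact hf0 (hax.symm ▸ h)
  · intro j
    rw [Groth.L16.genLocus_comp_iso _ ι', Groth.L18.Ample.genLocus_iso_pullback (u := r) hO s, hs]
    exact hf j

end Groth.L22.AvoidPts
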