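import Groth.Agent.L18.ProjSpaceUP
import Groth.Agent.L16.ProjSpace.Ample
import Mathlib.GroupTheory.CosetCover

/-!
Linear forms through a rational point of projective space avoiding finitely many other points.
-/

set_option autoImplicit false
set_option backward.isDefEq.respectTransparency false
set_option linter.style.haveILetI false

universe u

open CategoryTheory AlgebraicGeometry TopologicalSpace MvPolynomial
open Groth.L18.PUP Groth.L18.PS HomogeneousLocalization

noncomputable section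

namespace Groth.L22.AvoidPts

variable {K : Type u} [Field K] {n : ℕ}

/-- Membership in the point with coordinates `c`. -/
theorem mem_iff_eval {z : P n K} {i : Fin (n + 1)} {c : Fin (n + 1) → K}
    (hℓ : ∀ j, (X j : MvPolynomial (Fin (n + 1)) K) - C (c j) * X i ∈ z.asHomogeneousIdeal.toIdeal)
    (hi : (X i : MvPolynomial (Fin (n + 1)) K) ∉ z.asHomogeneousIdeal.toIdeal)
    {d : ℕ} {p : MvPolynomial (Fin (n + 1)) K} (hp : p.IsHomogeneous d) :
    p ∈ z.asHomogeneousIdeal.toIdeal ↔ eval c p = 0 := by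
  haveI := z.isPrime
  set I := z.asHomogeneousIdeal.toIdeal
  let q := Ideal.Quotient.mk I
  have hX : ∀ j, q (X j) = q (X i) * q (C (c j)) := fun j => by
    rw [← map_mul, Ideal.Quotient.mk_eq_mk_iff_sub_mem, mul_comm]
    exact hℓ j
  have h1 : q p = q (X i) ^ d * q (C (eval c p)) := by
    have h0 : q = eval₂Hom (q.comp C) (fun j => q (X i) * q (C (c j))) :=
      MvPolynomial.ringHom_ext (by simp) (fun j => by rw [eval₂Hom_X', hX])
    conv_lhs => rw [h0]
    rw [Groth.L18.PS.eval_smul _ _ _ hp]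
    congr 1
    exact DFunLike.congr_fun (MvPolynomial.ringHom_ext (f := eval₂Hom (q.comp C) fun j => q (C (c j)))
      (g := (q.comp C).comp (eval c)) (by simp) (by simp)) p
  rw [← Ideal.Quotient.eq_zero_iff_mem]
  show q p = 0 ↔ _
  have hne : q (X i) ≠ 0 := fun h => hi (Ideal.Quotient.eq_zero_iff_mem.1 h)
  rw [h1, mul_eq_zero, or_iff_right (pow_ne_zero _ hne)]
  refine ⟨fun h => ?_, fun h => by rw [h, map_zero, map_zero]⟩
  by_contra hne'
  exact ((isUnit_iff_ne_zero.2 hne').map (q.comp C)).ne_zero h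

theorem eq_of_mem {y z : P n K} {i : Fin (n + 1)} {c : Fin (n + 1) → K}
    (hy : ∀ j, (X j : MvPolynomial (Fin (n + 1)) K) - C (c j) * X i ∈ y.asHomogeneousIdeal.toIdeal)
    (hyi : (X i : MvPolynomial (Fin (n + 1)) K) ∉ y.asHomogeneousIdeal.toIdeal)
    (hz : ∀ j, (X j : MvPolynomial (Fin (n + 1)) K) - C (c j) * X i ∈ z.asHomogeneousIdeal.toIdeal)
    (hzi : (X i : MvPolynomial (Fin (n + 1)) K) ∉ z.asHomogeneousIdeal.toIdeal) : y = z := by
  apply ProjectiveSpectrum.ext
  apply HomogeneousIdeal.toIdeal_injective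
  ext x
  rw [y.asHomogeneousIdeal.isHomogeneous.mem_iff, z.asHomogeneousIdeal.isHomogeneous.mem_iff]
  refine forall_congr' fun d => ?_
  have hd : ((DirectSum.decompose (CohB1.polyGrading n K) x d : CohB1.polyGrading n K d) :
      MvPolynomial (Fin (n + 1)) K).IsHomogeneous d :=
    (mem_homogeneousSubmodule _ _).1 (DirectSum.decompose (CohB1.polyGrading n K) x d).2
  rw [mem_iff_eval hy hyi hd, mem_iff_eval hz hzi hd]

/-- The coordinates of a rational point. -/
theorem exists_coords (a : Spec (CommRingCat.of K) ⟶ P n K) (ha : a ≫ pr n K = 𝟙 _) :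
    ∃ (i : Fin (n + 1)) (c : Fin (n + 1) → K), c i = 1 ∧
      ∀ f : CohB1.polyGrading n K 1,
        (f : MvPolynomial (Fin (n + 1)) K) ∈ (a (IsLocalRing.closedPoint K)).asHomogeneousIdeal.toIdeal ↔
          eval c (f : MvPolynomial (Fin (n + 1)) K) = 0 := by
  obtain ⟨i, hi⟩ := Opens.mem_iSup.1 ((Groth.L18.PS.iSup_chart (n := n) (R := K)).ge
    (trivial : a (IsLocalRing.closedPoint K) ∈ (⊤ : (P n K).Opens)))
  replace hi : a (IsLocalRing.closedPoint K) ∈ D (R := K) i := hi
  have hr : Set.range a ⊆ Set.range (ch n K i) := by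
    rintro _ ⟨z, rfl⟩
    obtain rfl : z = IsLocalRing.closedPoint K := Subsingleton.elim _ _
    show _ ∈ ((ch n K i).opensRange : Set (P n K))
    rw [Proj.opensRange_awayι]
    exact hi
  let b := IsOpenImmersion.lift (ch n K i) a hr
  have hb : b ≫ ch n K i = a := IsOpenImmersion.lift_fac _ _ _
  obtain ⟨ψ, hψ⟩ := Spec.map_surjective b
  have hsc : ψ.hom.comp (chartScalar n K i) = RingHom.id K := by
    have h : Spec.map (CommRingCat.ofHom (chartScalar n K i) ≫ ψ) = Spec.map (𝟙 _) := by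
      rw [Spec.map_comp, hψ, ← chart_toSpec, ← Category.assoc]
      show (b ≫ ch n K i) ≫ pr n K = _
      rw [hb, ha, Spec.map_id]
    exact congrArg CommRingCat.Hom.hom (Spec.map_injective h)
  let c : Fin (n + 1) → K := fun j => ψ.hom (coord i j)
  have hci : c i = 1 := by simp [c, coord_self]
  have hu : IsUnit (c i) := by rw [hci]; exact isUnit_one
  have hch : ψ.hom = chartHom (RingHom.id K) c i hu := by
    refine chart_ringHom_ext i ?_ fun j => ?_
    · rw [chartHom_comp_scalar]; exact hsc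
    · have := chartHom_coord (RingHom.id K) c i hu j
      rw [hci, mul_one] at this
      exact this.symm
  refine ⟨i, c, hci, fun f => ?_⟩
  rw [← hb, ← not_iff_not]
  show ((b ≫ ch n K i) (IsLocalRing.closedPoint K)) ∈ Proj.basicOpen (CohB1.polyGrading n K) f.1 ↔ _
  rw [Scheme.Hom.comp_apply]
  show b (IsLocalRing.closedPoint K) ∈ ch n K i ⁻¹ᵁ Proj.basicOpen (CohB1.polyGrading n K) f.1 ↔ _
  rw [Proj.awayι_preimage_basicOpen (𝒜 := CohB1.polyGrading n K) (Groth.L18.PS.X_mem n i) one_pos f.2 one_pos]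
  rw [← hψ]
  show Away.isLocalizationElem (Groth.L18.PS.X_mem n i) f.2 ∉ Ideal.comap ψ.hom (IsLocalRing.maximalIdeal K) ↔ _
  rw [Ideal.mem_comap, IsLocalRing.maximalIdeal_eq_bot, Ideal.mem_bot]
  have hv := awayEval_mk (RingHom.id K) c (X i) (isUnit_eval_X (RingHom.id K) c hu) (Groth.L18.PS.X_mem n i) 1
    ((f : MvPolynomial (Fin (n + 1)) K) ^ 1) (by rw [pow_one]; simpa using f.2)
  rw [eval₂Hom_X', hci, one_pow, mul_one] at hv
  rw [hch]
  exact not_congr (by
    rw [show chartHom (RingHom.id K) c i hu (Away.isLocalizationElem (Groth.L18.PS.X_mem n i) f.2) =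
      eval₂Hom (RingHom.id K) c ((f : MvPolynomial (Fin (n + 1)) K) ^ 1) from hv, pow_one]
    rfl)

/-- A linear form vanishing at a rational point and not at finitely many other points. -/
theorem exists_form [Infinite K] (a : Spec (CommRingCat.of K) ⟶ P n K) (ha : a ≫ pr n K = 𝟙 _)
    {ι : Type*} [Finite ι] (z : ι → P n K) (hz : ∀ j, z j ≠ a (IsLocalRing.closedPoint K)) :
    ∃ f : CohB1.polyGrading n K 1,
      a (IsLocalRing.closedPoint K) ∉ Proj.basicOpen (CohB1.polyGrading n K) f.1 ∧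
        ∀ j, z j ∈ Proj.basicOpen (CohB1.polyGrading n K) f.1 := by
  classical
  obtain ⟨i, c, hci, hmem⟩ := exists_coords a ha
  let A : Submodule K (CohB1.polyGrading n K 1) :=
    (LinearMap.ker ((MvPolynomial.aeval c).toLinearMap.comp (CohB1.polyGrading n K 1).subtype))
  have hA : ∀ f : CohB1.polyGrading n K 1, f ∈ A ↔
      (f : MvPolynomial (Fin (n + 1)) K) ∈ (a (IsLocalRing.closedPoint K)).asHomogeneousIdeal.toIdeal := fun f => by
    rw [hmem, LinearMap.mem_ker]
    rfl
  let B : ι → Submodule K A := fun j =>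
    ((z j).asHomogeneousIdeal.toIdeal.restrictScalars K).comap
      ((CohB1.polyGrading n K 1).subtype.comp A.subtype)
  obtain ⟨w, hw⟩ : ∃ w : A, ∀ j, w ∉ B j := by
    by_contra hcon
    push Not at hcon
    obtain ⟨j, hj⟩ := Subspace.exists_eq_top_of_iUnion_eq_univ (p := B)
      (Set.eq_univ_of_forall fun w => Set.mem_iUnion.2 (hcon w))
    let ℓ : Fin (n + 1) → CohB1.polyGrading n K 1 := fun l =>
      ⟨X l - C (c l) * X i, (mem_homogeneousSubmodule _ _).2
        ((isHomogeneous_X K l).sub (isHomogeneous_C_mul_X (c l) i))⟩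
    have hℓA : ∀ l, ℓ l ∈ A := fun l => by
      rw [hA, hmem]
      simp [ℓ, hci]
    have hzℓ : ∀ l, (ℓ l : MvPolynomial (Fin (n + 1)) K) ∈ (z j).asHomogeneousIdeal.toIdeal := fun l => by
      have : (⟨ℓ l, hℓA l⟩ : A) ∈ B j := hj ▸ trivial
      exact this
    have hzi : (X i : MvPolynomial (Fin (n + 1)) K) ∉ (z j).asHomogeneousIdeal.toIdeal := fun h => by
      obtain ⟨l, hl⟩ := Opens.mem_iSup.1 ((Groth.L18.PS.iSup_chart (n := n) (R := K)).ge
        (trivial : z j ∈ (⊤ : (P n K).Opens)))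
      refine (Proj.mem_basicOpen _ _ _).1 (show z j ∈ D (R := K) l from hl) ?_
      have := add_mem (hzℓ l) (Ideal.mul_mem_left _ (C (c l)) h)
      rwa [sub_add_cancel] at this
    refine hz j (eq_of_mem hzℓ hzi (fun l => (hmem (ℓ l)).2 (by simp [ℓ, hci]))
      fun h => ?_)
    have := (hmem ⟨X i, Groth.L18.PS.X_mem n i⟩).1 h
    simp [hci] at this
  exact ⟨w.1, fun h => (Proj.mem_basicOpen _ _ _).1 h ((hA _).1 w.2),
    fun j => (Proj.mem_basicOpen _ _ _).2 (hw j)⟩

end Groth.L22.AvoidPts
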